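import Groth.Prelude.Def_CohTop
import Mathlib.Algebra.Homology.DerivedCategory.Ext.ExactSequences
import Mathlib.CategoryTheory.Abelian.Basic
import Mathlib.CategoryTheory.Sites.SheafCohomology.Basic
import Mathlib.Topology.Sheaves.SheafCondition.UniqueGluing
import Mathlib.Topology.Sheaves.LocallySurjective

/-! Sections of kernels and long exact cohomology sequences for abelian sheaves. -/

universe u

open CategoryTheory CategoryTheory.Limits Opposite TopologicalSpace Abelian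

set_option backward.isDefEq.respectTransparency false

noncomputable section

namespace Groth.L10.UnitsThick

variable {X : TopCat.{u}}

/-- sections over an open -/
abbrev sec (V : Opens X) : CohTop.Ab X ⥤ AddCommGrpCat.{u} :=
  sheafToPresheaf _ _ ⋙ (evaluation _ _).obj (op V)

instance additive_sec (V : Opens X) : (sec V).Additive where

theorem sections_of_mono_exact (S : ShortComplex (CohTop.Ab X)) (hS : S.Exact) [Mono S.f] (V : Opens X) :
    Function.Injective (S.f.hom.app (op V)) ∧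
      ∀ p, S.g.hom.app (op V) p = 0 → ∃ q, S.f.hom.app (op V) q = p := by
  have hk : IsLimit (KernelFork.ofι (S.map (sec V)).f (S.map (sec V)).zero) :=
    isLimitForkMapOfIsLimit' (sec V) S.zero hS.fIsKernel
  haveI : Mono (S.map (sec V)).f := mono_of_isLimit_fork hk
  exact ⟨(AddCommGrpCat.mono_iff_injective (S.map (sec V)).f).1 inferInstance, fun p hp =>
    (ShortComplex.ab_exact_iff (S.map (sec V))).1 (ShortComplex.exact_of_f_is_kernel _ hk) p hp⟩

theorem kernel_sections {F G : CohTop.Ab X} (φ : F ⟶ G) (V : Opens X) :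
    Function.Injective ((kernel.ι φ).hom.app (op V)) ∧
      ∀ p, φ.hom.app (op V) p = 0 → ∃ q, (kernel.ι φ).hom.app (op V) q = p :=
  sections_of_mono_exact (ShortComplex.mk (kernel.ι φ) φ (kernel.condition φ))
    (ShortComplex.exact_of_f_is_kernel _ (kernelIsKernel φ)) V

theorem kernel_condition_apply {F G : CohTop.Ab X} (φ : F ⟶ G) (V : Opens X) (q : (kernel φ).obj.obj (op V)) :
    φ.hom.app (op V) ((kernel.ι φ).hom.app (op V) q) = 0 :=
  congr($(congrArg (fun ψ : kernel φ ⟶ G => ψ.hom.app (op V)) (kernel.condition φ)) q)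

theorem cokernel_sections {F G : CohTop.Ab X} (j : F ⟶ G) [Mono j] (V : Opens X) (p : G.obj.obj (op V)) :
    (cokernel.π j).hom.app (op V) p = 0 ↔ ∃ q, j.hom.app (op V) q = p := by
  constructor
  · exact (sections_of_mono_exact (ShortComplex.mk j (cokernel.π j) (cokernel.condition j))
      (ShortComplex.exact_of_g_is_cokernel _ (cokernelIsCokernel j)) V).2 p
  · rintro ⟨q, rfl⟩
    exact congr($(congrArg (fun ψ : F ⟶ cokernel j => ψ.hom.app (op V)) (cokernel.condition j)) q)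

theorem eq_of_locally {F : CohTop.Ab X} {V : Opens X} {s t : F.obj.obj (op V)}
    (h : ∀ x ∈ V, ∃ W : Opens X, x ∈ W ∧ ∃ i : W ⟶ V, F.obj.map i.op s = F.obj.map i.op t) : s = t := by
  choose W hxW i hi using h
  exact TopCat.Sheaf.eq_of_locally_eq' F (fun x : V => W x.1 x.2) V (fun x => i x.1 x.2)
    (fun x hx => Opens.mem_iSup.2 ⟨⟨x, hx⟩, hxW x hx⟩) s t (fun x => hi x.1 x.2)

theorem exists_local_lift {F G : CohTop.Ab X} (φ : F ⟶ G) [Epi φ] {V : Opens X} (s : G.obj.obj (op V))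
    {x : X} (hx : x ∈ V) : ∃ W : Opens X, x ∈ W ∧ ∃ i : W ⟶ V, ∃ t : F.obj.obj (op W),
      φ.hom.app (op W) t = G.obj.map i.op s := by
  haveI : Sheaf.IsLocallySurjective φ :=
    (Sheaf.isLocallySurjective_iff_epi' (J := Opens.grothendieckTopology X) (A := AddCommGrpCat.{u}) φ).2 inferInstance
  obtain ⟨W, i, ⟨t, ht⟩, hW⟩ := Presheaf.imageSieve_mem (Opens.grothendieckTopology X) φ.hom (U := op V) s x hx
  exact ⟨W, hW, i, t, ht⟩

theorem epi_of_local_lift {F G : CohTop.Ab X} (φ : F ⟶ G)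
    (h : ∀ (V : Opens X) (s : G.obj.obj (op V)), ∀ x ∈ V, ∃ W : Opens X, x ∈ W ∧ ∃ i : W ⟶ V,
      ∃ t : F.obj.obj (op W), φ.hom.app (op W) t = G.obj.map i.op s) : Epi φ := by
  haveI : Sheaf.IsLocallySurjective φ :=
    ⟨fun {V} s x hx => by
      obtain ⟨W, hW, i, t, ht⟩ := h V s x hx
      exact ⟨W, i, ⟨t, ht⟩, hW⟩⟩
  exact (Sheaf.isLocallySurjective_iff_epi' (J := Opens.grothendieckTopology X) (A := AddCommGrpCat.{u}) φ).1 inferInstance

/-- two epimorphisms with the same kernel have isomorphic targets -/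
theorem nonempty_iso_of_epi {O Q J : CohTop.Ab X} (η : O ⟶ Q) (c : O ⟶ J) [Epi η] [Epi c]
    (h : ∀ (V : Opens X) (s : O.obj.obj (op V)), η.hom.app (op V) s = 0 ↔ c.hom.app (op V) s = 0) :
    Nonempty (Q ≅ J) := by
  have key : ∀ {Q J : CohTop.Ab X} (η : O ⟶ Q) (c : O ⟶ J),
      (∀ (V : Opens X) (s : O.obj.obj (op V)), η.hom.app (op V) s = 0 → c.hom.app (op V) s = 0) →
      kernel.ι η ≫ c = 0 := fun η c h => by
    ext V s
    exact h V.unop _ (kernel_condition_apply η V.unop s)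
  let S := ShortComplex.mk (kernel.ι η) η (kernel.condition η)
  let T := ShortComplex.mk (kernel.ι c) c (kernel.condition c)
  have hS : S.Exact := ShortComplex.exact_of_f_is_kernel _ (kernelIsKernel η)
  have hT : T.Exact := ShortComplex.exact_of_f_is_kernel _ (kernelIsKernel c)
  haveI : Epi S.g := ‹Epi η›
  haveI : Epi T.g := ‹Epi c›
  let a := hS.desc c (key η c fun V s => (h V s).1)
  let b := hT.desc η (key c η fun V s => (h V s).2)
  have ha : η ≫ a = c := hS.g_desc _ _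
  have hb : c ≫ b = η := hT.g_desc _ _
  exact ⟨⟨a, b, by rw [← cancel_epi η, ← Category.assoc, ha, hb, Category.comp_id],
    by rw [← cancel_epi c, ← Category.assoc, hb, ha, Category.comp_id]⟩⟩

theorem H_map_surjective {S : ShortComplex (CohTop.Ab X)} (hS : S.ShortExact) (q : ℕ)
    (h : Subsingleton (Sheaf.H S.X₁ (q + 1))) : Function.Surjective (Sheaf.H.map S.g q) := fun y => by
  obtain ⟨z, hz⟩ := Ext.covariant_sequence_exact₃ _ hS y rfl (Subsingleton.elim _ _)
  exact ⟨z, hz⟩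

theorem subsingleton_H_middle {S : ShortComplex (CohTop.Ab X)} (hS : S.ShortExact) (q : ℕ)
    (h1 : Subsingleton (Sheaf.H S.X₁ q)) (h3 : Subsingleton (Sheaf.H S.X₃ q)) :
    Subsingleton (Sheaf.H S.X₂ q) := by
  refine ⟨fun a b => sub_eq_zero.1 ?_⟩
  obtain ⟨z, hz⟩ := Ext.covariant_sequence_exact₂ _ hS (a - b) (Subsingleton.elim _ _)
  rw [← hz, Subsingleton.elim z 0, Ext.zero_comp]

theorem subsingleton_H_of_isZero {F : CohTop.Ab X} (hF : IsZero F) (q : ℕ) : Subsingleton (Sheaf.H F q) :=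
  ⟨fun a b => by
    rw [← Ext.comp_mk₀_id a, ← Ext.comp_mk₀_id b, hF.eq_of_src (𝟙 F) 0, Ext.mk₀_zero, Ext.comp_zero, Ext.comp_zero]⟩

theorem subsingleton_H_of_iso {F G : CohTop.Ab X} (e : F ≅ G) (q : ℕ) (h : Subsingleton (Sheaf.H F q)) :
    Subsingleton (Sheaf.H G q) :=
  (Function.LeftInverse.injective (g := Sheaf.H.map e.hom q) (f := Sheaf.H.map e.inv q)
    (fun x => by simp [Sheaf.H.map_apply])).subsingleton

/-- if `S.g` is split epi, the kernel of `H^q(S.g)` is `H^q(S.X₁)` -/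
theorem nonempty_ker_addEquiv {S : ShortComplex (CohTop.Ab X)} (hS : S.ShortExact) (σ : S.X₃ ⟶ S.X₂)
    (hσ : σ ≫ S.g = 𝟙 S.X₃) (q : ℕ) : Nonempty ((Sheaf.H.map S.g q).ker ≃+ Sheaf.H S.X₁ q) := by
  haveI : Mono S.f := hS.mono_f
  haveI : Epi S.g := hS.epi_g
  let s := ShortComplex.Splitting.ofExactOfSection S hS.exact σ hσ hS.mono_f
  let φ : Sheaf.H S.X₁ q →+ (Sheaf.H.map S.g q).ker :=
    (Sheaf.H.map S.f q).codRestrict _ fun x => by
      show Sheaf.H.map S.g q (Sheaf.H.map S.f q x) = 0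
      simp [Sheaf.H.map_apply, Ext.comp_assoc_of_second_deg_zero]
  refine ⟨(AddEquiv.ofBijective φ ⟨fun x y h => ?_, fun y => ?_⟩).symm⟩
  · have h1 := congrArg (fun z : (Sheaf.H.map S.g q).ker => Sheaf.H.map s.r q z.1) h
    simpa [φ, Sheaf.H.map_apply, Ext.comp_assoc_of_second_deg_zero] using h1
  · obtain ⟨z, hz⟩ := Ext.covariant_sequence_exact₂ _ hS y.1 y.2
    exact ⟨z, Subtype.ext hz⟩

end Groth.L10.UnitsThick
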