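import Groth.Agent.L10.UnitsThick.Alg
import Groth.Agent.L10.UnitsThick.Sheaf
import Groth.Agent.L17.AffinePush
import Groth.Prelude.Def_UnitsSh
import Mathlib.RingTheory.Nilpotent.Basic

/-! Principal units of thickenings and their graded pieces. -/

set_option autoImplicit false
set_option linter.style.haveILetI false
set_option linter.unusedSectionVars false
set_option backward.isDefEq.respectTransparency false
set_option backward.isDefEq.respectTransparency.types false

universe u

open CategoryTheory CategoryTheory.Limits AlgebraicGeometry TopologicalSpace Opposite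

noncomputable section

namespace Groth.L10.UnitsThick

open Groth.L17.BC (act)

variable {X : Scheme.{u}}

/-- restriction of functions -/
abbrev rf {V W : X.Opens} (i : W ⟶ V) (a : Γ(X, V)) : Γ(X, W) := X.presheaf.map i.op a

theorem app_rf {Z : Scheme.{u}} (g : Z ⟶ X) {V W : X.Opens} (i : W ⟶ V) (a : Γ(X, V)) :
    g.app W (rf i a) = Z.presheaf.map ((Opens.map g.base).map i).op (g.app V a) :=
  congr($(g.c.naturality i.op) a)

theorem exists_affine {V : X.Opens} {x : X} (hx : x ∈ V) :
    ∃ W : X.Opens, IsAffineOpen W ∧ x ∈ W ∧ Nonempty (W ⟶ V) := by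
  obtain ⟨_, ⟨W, hW, rfl⟩, hxW, hWV⟩ := X.isBasis_affineOpens.exists_subset_of_mem_open (hx : x ∈ (V : Set X)) V.2
  exact ⟨W, hW, hxW, ⟨homOfLE hWV⟩⟩

/-- vanishing on a closed subscheme is local -/
theorem app_eq_zero_of_local {Z : Scheme.{u}} (g : Z ⟶ X) {V : X.Opens} {a : Γ(X, V)}
    (h : ∀ (W : X.Opens) (i : W ⟶ V), IsAffineOpen W → g.app W (rf i a) = 0) : g.app V a = 0 := by
  refine eq_of_locally (F := (CohTop.push g.base).obj (Coh.toAb (Coh.structureModule Z))) (V := V)
    (s := g.app V a) (t := 0) fun x hx => ?_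
  obtain ⟨W, hW, hxW, ⟨i⟩⟩ := exists_affine hx
  refine ⟨W, hxW, i, ?_⟩
  rw [map_zero]
  exact (app_rf g i a).symm.trans (h W i hW)

/-- `O_X → g_* O_Z` as abelian sheaves -/
def cMap {Z : Scheme.{u}} (g : Z ⟶ X) :
    Coh.toAb (Coh.structureModule X) ⟶ (CohTop.push g.base).obj (Coh.toAb (Coh.structureModule Z)) :=
  ⟨{ app := fun V => AddCommGrpCat.ofHom (show Γ(X, V.unop) →+ Γ(Z, g ⁻¹ᵁ V.unop) from (g.app V.unop).hom.toAddMonoidHom)
     naturality := fun V W i => by
       ext a
       exact app_rf g i.unop a }⟩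

theorem cMap_app {Z : Scheme.{u}} (g : Z ⟶ X) (V : X.Opens) (a : Γ(X, V)) :
    (cMap g).hom.app (op V) a = g.app V a := rfl

/-- principal units -/
abbrev P {Z : Scheme.{u}} (g : Z ⟶ X) : CohTop.Ab X.toTopCat := kernel (UnitsSh.comap g)

/-- the function underlying a principal unit -/
def val {Z : Scheme.{u}} (g : Z ⟶ X) {V : X.Opens} (p : (P g).obj.obj (op V)) : Γ(X, V) :=
  (UnitsSh.unitOfSect (X := X.toTopCat) (O := X.sheaf.obj) ((kernel.ι (UnitsSh.comap g)).hom.app (op V) p)).val

theorem app_val {Z : Scheme.{u}} (g : Z ⟶ X) {V : X.Opens} (p : (P g).obj.obj (op V)) :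
    g.app V (val g p) = 1 := by
  have h := kernel_condition_apply (UnitsSh.comap g) V p
  exact congrArg (fun s => (UnitsSh.unitOfSect (X := X.toTopCat) (O := g.base _* Z.presheaf) s).val) h

theorem exists_val {Z : Scheme.{u}} (g : Z ⟶ X) {V : X.Opens} (v : Γ(X, V)ˣ) (hv : g.app V v.val = 1) :
    ∃ p : (P g).obj.obj (op V), val g p = v.val := by
  obtain ⟨p, hp⟩ := (kernel_sections (UnitsSh.comap g) V).2 (UnitsSh.sectOfUnit (X := X.toTopCat) (O := X.sheaf.obj) v)
    (congrArg (UnitsSh.sectOfUnit (X := X.toTopCat) (O := g.base _* Z.presheaf)) (Units.ext hv :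
      Units.map (g.app V).hom.toMonoidHom v = 1))
  exact ⟨p, congrArg (fun s => (UnitsSh.unitOfSect (X := X.toTopCat) (O := X.sheaf.obj) s).val) hp⟩

theorem val_injective {Z : Scheme.{u}} (g : Z ⟶ X) {V : X.Opens} : Function.Injective (val g (V := V)) :=
  fun p q h => (kernel_sections (UnitsSh.comap g) V).1
    (congrArg (UnitsSh.sectOfUnit (X := X.toTopCat) (O := X.sheaf.obj)) (Units.ext h))

theorem val_add {Z : Scheme.{u}} (g : Z ⟶ X) {V : X.Opens} (p q : (P g).obj.obj (op V)) :
    val g (p + q) = val g p * val g q := by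
  simp only [val, map_add]
  rfl

theorem val_zero {Z : Scheme.{u}} (g : Z ⟶ X) {V : X.Opens} : val g (0 : (P g).obj.obj (op V)) = 1 := by
  simp only [val, map_zero]
  rfl

theorem val_map {Z : Scheme.{u}} (g : Z ⟶ X) {V W : X.Opens} (i : W ⟶ V) (p : (P g).obj.obj (op V)) :
    val g ((P g).obj.map i.op p) = rf i (val g p) := by
  have h := congr($((kernel.ι (UnitsSh.comap g)).hom.naturality i.op) p)
  exact congrArg (fun s => (UnitsSh.unitOfSect (X := X.toTopCat) (O := X.sheaf.obj) s).val) h

section Le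

variable {Z' Z : Scheme.{u}} (g' : Z' ⟶ X) (g : Z ⟶ X)
  (hle : ∀ (V : X.Opens) (a : Γ(X, V)), g'.app V a = 0 → g.app V a = 0)

include hle in
theorem ι_comp : kernel.ι (UnitsSh.comap g') ≫ UnitsSh.comap g = 0 := by
  ext V p
  refine congrArg (UnitsSh.sectOfUnit (X := X.toTopCat) (O := g.base _* Z.presheaf)) (Units.ext ?_ :
    Units.map (g.app V.unop).hom.toMonoidHom
      (UnitsSh.unitOfSect (X := X.toTopCat) (O := X.sheaf.obj) ((kernel.ι (UnitsSh.comap g')).hom.app V p)) = 1)
  show g.app V.unop (val g' p) = 1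
  have := hle V.unop (val g' p - 1) (by rw [map_sub, app_val, map_one, sub_self])
  rwa [map_sub, map_one, sub_eq_zero] at this

/-- inclusion of principal units -/
def incl : P g' ⟶ P g := kernel.lift _ (kernel.ι (UnitsSh.comap g')) (ι_comp g' g hle)

theorem incl_ι : incl g' g hle ≫ kernel.ι (UnitsSh.comap g) = kernel.ι (UnitsSh.comap g') := kernel.lift_ι _ _ _

theorem mono_incl : Mono (incl g' g hle) := mono_of_mono_fac (incl_ι g' g hle)

theorem val_incl {V : X.Opens} (p : (P g').obj.obj (op V)) : val g ((incl g' g hle).hom.app (op V) p) = val g' p := by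
  have h := congr($(congrArg (fun ψ : P g' ⟶ UnitsSh.unitsAb X => ψ.hom.app (op V)) (incl_ι g' g hle)) p)
  exact congrArg (fun s => (UnitsSh.unitOfSect (X := X.toTopCat) (O := X.sheaf.obj) s).val) h

/-- the graded piece -/
abbrev gr : CohTop.Ab X.toTopCat := cokernel (incl g' g hle)

/-- projection to the graded piece -/
abbrev toGr {V : X.Opens} (p : (P g).obj.obj (op V)) : (gr g' g hle).obj.obj (op V) :=
  (cokernel.π (incl g' g hle)).hom.app (op V) p

theorem toGr_eq_zero_iff {V : X.Opens} (p : (P g).obj.obj (op V)) :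
    toGr g' g hle p = 0 ↔ g'.app V (val g p) = 1 := by
  haveI := mono_incl g' g hle
  rw [cokernel_sections]
  constructor
  · rintro ⟨q, rfl⟩
    rw [val_incl, app_val]
  · intro h
    obtain ⟨q, hq⟩ := exists_val g' (UnitsSh.unitOfSect (X := X.toTopCat) (O := X.sheaf.obj) ((kernel.ι (UnitsSh.comap g)).hom.app (op V) p)) h
    exact ⟨q, val_injective g ((val_incl g' g hle q).trans hq)⟩

theorem toGr_eq {V : X.Opens} {p q : (P g).obj.obj (op V)} (h : g'.app V (val g p) = g'.app V (val g q)) :
    toGr g' g hle p = toGr g' g hle q := by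
  rw [← sub_eq_zero]
  show (cokernel.π (incl g' g hle)).hom.app (op V) p - (cokernel.π (incl g' g hle)).hom.app (op V) q = 0
  rw [← map_sub]
  refine (toGr_eq_zero_iff g' g hle _).2 ?_
  have h1 : val g (p - q) * val g q = val g p := by rw [← val_add, sub_add_cancel]
  have hu : IsUnit (g'.app V (val g q)) :=
    (UnitsSh.unitOfSect (X := X.toTopCat) (O := X.sheaf.obj) ((kernel.ι (UnitsSh.comap g)).hom.app (op V) q)).isUnit.map _
  refine hu.mul_right_cancel ?_
  rw [one_mul, ← map_mul, h1, h]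

end Le

variable {A : Type u} [CommRing A] (f : X ⟶ Spec (CommRingCat.of A))

theorem act_rf {V W : X.Opens} (i : W ⟶ V) (a : A) :
    rf i (act (Coh.toGlobal f) V a) = act (Coh.toGlobal f) W a := by
  show (X.presheaf.map _ ≫ X.presheaf.map _) (Coh.toGlobal f a) = _
  rw [← Functor.map_comp]
  rfl

variable {f}

theorem IsCut.mono {I' I : Ideal A} {Z' Z : Scheme.{u}} {g' : Z' ⟶ X} {g : Z ⟶ X} (h' : IsCut f g' I')
    (h : IsCut f g I) (hII : I' ≤ I) (V : X.Opens) (a : Γ(X, V)) (ha : g'.app V a = 0) : g.app V a = 0 :=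
  app_eq_zero_of_local g fun W i hW => (h.app_eq_zero_iff W hW _).2 (Ideal.map_mono hII
    ((h'.app_eq_zero_iff W hW _).1 (by rw [app_rf, ha, map_zero])))

theorem IsCut.app_act {I : Ideal A} {Z : Scheme.{u}} {g : Z ⟶ X} (h : IsCut f g I) {a : A} (ha : a ∈ I)
    (V : X.Opens) : g.app V (act (Coh.toGlobal f) V a) = 0 :=
  app_eq_zero_of_local g fun W i hW => by
    rw [act_rf]
    exact (h.app_eq_zero_iff W hW _).2 (Ideal.mem_map_of_mem _ ha)

theorem IsCut.epi_cMap {I : Ideal A} {Z : Scheme.{u}} {g : Z ⟶ X} (h : IsCut f g I) : Epi (cMap g) :=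
  epi_of_local_lift _ fun V s x hx => by
    obtain ⟨W, hW, hxW, ⟨i⟩⟩ := exists_affine hx
    obtain ⟨t, ht⟩ := h.surj W hW (((CohTop.push g.base).obj (Coh.toAb (Coh.structureModule Z))).obj.map i.op s)
    exact ⟨W, hxW, i, t, ht⟩

theorem IsCut.epi_comap {I : Ideal A} {Z : Scheme.{u}} {g : Z ⟶ X} (h : IsCut f g I)
    (hI : ∀ x ∈ I, IsNilpotent x) : Epi (UnitsSh.comap g) :=
  epi_of_local_lift _ fun V s x hx => by
    obtain ⟨W, hW, hxW, ⟨i⟩⟩ := exists_affine hx
    let v : Γ(Z, g ⁻¹ᵁ W)ˣ := UnitsSh.unitOfSect (X := X.toTopCat) (O := g.base _* Z.presheaf)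
      (((CohTop.push g.base).obj (UnitsSh.unitsAb Z)).obj.map i.op s)
    obtain ⟨a, ha⟩ := h.surj W hW v.val
    obtain ⟨b, hb⟩ := h.surj W hW v⁻¹.val
    have hn : IsNilpotent (a * b - 1) := isNilpotent_of_mem_map f hI
      ((h.app_eq_zero_iff W hW _).1 (by rw [map_sub, map_mul, ha, hb, map_one, Units.mul_inv, sub_self]))
    have hu : IsUnit (a * b) := by simpa using hn.isUnit_one_add
    exact ⟨W, hxW, i, UnitsSh.sectOfUnit (X := X.toTopCat) (O := X.sheaf.obj) (isUnit_of_mul_isUnit_left hu).unit,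
      congrArg (UnitsSh.sectOfUnit (X := X.toTopCat) (O := g.base _* Z.presheaf)) (Units.ext ha :
        Units.map (g.app W).hom.toMonoidHom (isUnit_of_mul_isUnit_left hu).unit = v)⟩

/-- the units sequence of a nilpotent thickening -/
theorem IsCut.shortExact {I : Ideal A} {Z : Scheme.{u}} {g : Z ⟶ X} (h : IsCut f g I)
    (hI : ∀ x ∈ I, IsNilpotent x) :
    (ShortComplex.mk (kernel.ι (UnitsSh.comap g)) (UnitsSh.comap g) (kernel.condition _)).ShortExact :=
  haveI := h.epi_comap hI
  { exact := ShortComplex.exact_of_f_is_kernel _ (kernelIsKernel _) }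

theorem IsCut.isZero_P {Z : Scheme.{u}} {g : Z ⟶ X} (h : IsCut f g (⊥ : Ideal A)) : IsZero (P g) := by
  rw [IsZero.iff_id_eq_zero]
  ext V p
  refine val_injective g ((?_ : val g p = 1).trans (val_zero g).symm)
  rw [← sub_eq_zero]
  refine eq_of_locally (F := Coh.toAb (Coh.structureModule X)) fun x hx => ?_
  obtain ⟨W, hW, hxW, ⟨i⟩⟩ := exists_affine hx
  refine ⟨W, hxW, i, ?_⟩
  have h0 : g.app W (rf i (val g p - 1)) = 0 := by rw [app_rf, map_sub, app_val, map_one, sub_self, map_zero]
  have := (h.app_eq_zero_iff W hW _).1 h0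
  rw [Ideal.map_bot, Ideal.mem_bot] at this
  exact this.trans (map_zero _).symm

section Step

variable {I' I m : Ideal A} {Z' Z Z₀ : Scheme.{u}} {g' : Z' ⟶ X} {g : Z ⟶ X} {g₀ : Z₀ ⟶ X}
  (h' : IsCut f g' I') (h : IsCut f g I) (hII : I' ≤ I) (t : A) (ht : t ∈ I) (hI : ∀ x ∈ I, IsNilpotent x)
  (hsq : t * t ∈ I')

include h ht hI in
theorem exists_one_add (V : X.Opens) (s : Γ(X, V)) :
    ∃ p : (P g).obj.obj (op V), val g p = 1 + act (Coh.toGlobal f) V t * s := by
  have hn : IsNilpotent (act (Coh.toGlobal f) V t * s) :=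
    (Commute.all _ _).isNilpotent_mul_right ((hI t ht).map _)
  exact exists_val g hn.isUnit_one_add.unit (by
    show g.app V (1 + act (Coh.toGlobal f) V t * s) = 1
    rw [map_add, map_one, map_mul, h.app_act ht, zero_mul, add_zero])

include hsq in
/-- `s ↦ 1 + t s` into the graded piece -/
def eta : Coh.toAb (Coh.structureModule X) ⟶ gr g' g (h'.mono h hII) :=
  ⟨{ app := fun V => AddCommGrpCat.ofHom (AddMonoidHom.mk'
        (fun s : Γ(X, V.unop) => toGr g' g (h'.mono h hII) (exists_one_add h t ht hI V.unop s).choose)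
        fun (a b : Γ(X, V.unop)) => by
          show _ = toGr g' g (h'.mono h hII) _ + toGr g' g (h'.mono h hII) _
          refine Eq.trans ?_ (map_add _ _ _)
          refine toGr_eq g' g _ ?_
          rw [val_add, (exists_one_add h t ht hI V.unop (a + b)).choose_spec,
            (exists_one_add h t ht hI V.unop a).choose_spec, (exists_one_add h t ht hI V.unop b).choose_spec]
          have e : (1 + act (Coh.toGlobal f) V.unop t * a) * (1 + act (Coh.toGlobal f) V.unop t * b) =
              1 + act (Coh.toGlobal f) V.unop t * (a + b) + act (Coh.toGlobal f) V.unop (t * t) * (a * b) := by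
            rw [map_mul]; ring
          rw [e, map_add _ _ (_ * (a * b)), map_mul _ (act (Coh.toGlobal f) V.unop (t * t)), h'.app_act hsq, zero_mul,
            add_zero])
     naturality := fun V W i => by
       ext (a : Γ(X, V.unop))
       show toGr g' g (h'.mono h hII) (exists_one_add h t ht hI W.unop (rf i.unop a)).choose =
         (gr g' g (h'.mono h hII)).obj.map i (toGr g' g (h'.mono h hII) (exists_one_add h t ht hI V.unop a).choose)
       refine Eq.trans ?_ (congr($((cokernel.π (incl g' g (h'.mono h hII))).hom.naturality i)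
         (exists_one_add h t ht hI V.unop a).choose))
       refine toGr_eq g' g _ ?_
       rw [(exists_one_add h t ht hI W.unop (rf i.unop a)).choose_spec]
       refine congrArg (g'.app W.unop) ?_
       erw [val_map g i.unop, (exists_one_add h t ht hI V.unop a).choose_spec]
       show _ = X.presheaf.map i (1 + act (Coh.toGlobal f) V.unop t * a)
       rw [map_add, map_one, map_mul]
       exact congrArg (fun z => 1 + z * _) (act_rf f i.unop t).symm }⟩

theorem eta_app_eq_zero_iff (V : X.Opens) (s : Γ(X, V)) :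
    (eta h' h hII t ht hI hsq).hom.app (op V) s = 0 ↔ g'.app V (act (Coh.toGlobal f) V t * s) = 0 := by
  refine (toGr_eq_zero_iff g' g (h'.mono h hII) _).trans ?_
  rw [(exists_one_add h t ht hI V s).choose_spec, map_add, map_one, add_eq_left]

variable (hspan : I ≤ I' ⊔ Ideal.span {t})

include hspan in
theorem epi_eta : Epi (eta h' h hII t ht hI hsq) := by
  refine epi_of_local_lift _ fun V s x hx => ?_
  obtain ⟨W₁, hxW₁, i₁, p₁, hp₁⟩ := exists_local_lift (cokernel.π (incl g' g (h'.mono h hII))) s hx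
  obtain ⟨W, hW, hxW, ⟨i⟩⟩ := exists_affine hxW₁
  let p := (P g).obj.map i.op p₁
  have hp : toGr g' g (h'.mono h hII) p = (gr g' g (h'.mono h hII)).obj.map (i ≫ i₁).op s := by
    refine (congr($((cokernel.π (incl g' g (h'.mono h hII))).hom.naturality i.op) p₁)).trans ?_
    show (gr g' g (h'.mono h hII)).obj.map i.op ((cokernel.π (incl g' g (h'.mono h hII))).hom.app (op W₁) p₁) = _
    rw [hp₁, ← ConcreteCategory.comp_apply, ← Functor.map_comp, ← op_comp]
  have h1 := Ideal.map_mono hspan ((h.app_eq_zero_iff W hW (val g p - 1)).1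
    (by rw [map_sub, app_val, map_one, sub_self]))
  rw [Ideal.map_sup, Ideal.map_span, Set.image_singleton, Submodule.mem_sup] at h1
  obtain ⟨k, hk, l, hl, hkl⟩ := h1
  obtain ⟨a, rfl⟩ := Ideal.mem_span_singleton'.1 hl
  refine ⟨W, hxW, i ≫ i₁, a, ?_⟩
  rw [← hp]
  refine toGr_eq g' g _ ?_
  rw [(exists_one_add h t ht hI W a).choose_spec]
  have e : val g p = (1 + act (Coh.toGlobal f) W t * a) + k := by linear_combination -hkl
  rw [e, map_add _ _ k, (h'.app_eq_zero_iff W hW k).2 hk, add_zero]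

variable [Flat f] (h₀ : IsCut f g₀ m) (hmt : ∀ x ∈ m, x * t ∈ I') (hcol : ∀ x, x * t ∈ I' → x ∈ m)

include hspan h₀ hmt hcol ht hI hsq in
theorem nonempty_gr_iso :
    Nonempty (gr g' g (h'.mono h hII) ≅ (CohTop.push g₀.base).obj (Coh.toAb (Coh.structureModule Z₀))) := by
  haveI := epi_eta h' h hII t ht hI hsq hspan
  haveI := h₀.epi_cMap
  refine nonempty_iso_of_epi (eta h' h hII t ht hI hsq) (cMap g₀) fun V (s : Γ(X, V)) => ?_
  refine (eta_app_eq_zero_iff h' h hII t ht hI hsq V s).trans ⟨fun hs => ?_, fun hs => ?_⟩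
  · refine app_eq_zero_of_local g₀ fun W i hW => (h₀.app_eq_zero_iff W hW _).2
      (mem_map_of_mul_mem f t hmt hcol hW ((h'.app_eq_zero_iff W hW _).1 ?_))
    rw [← act_rf f i t]
    show g'.app W (X.presheaf.map i.op (act (Coh.toGlobal f) V t) * X.presheaf.map i.op s) = 0
    rw [← map_mul]
    exact (app_rf g' i _).trans (by rw [hs, map_zero])
  · refine app_eq_zero_of_local g' fun W i hW => ?_
    show g'.app W (X.presheaf.map i.op (act (Coh.toGlobal f) V t * s)) = 0
    rw [map_mul]
    rw [show X.presheaf.map i.op (act (Coh.toGlobal f) V t) = act (Coh.toGlobal f) W t from act_rf f i t]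
    have h2 := (h₀.app_eq_zero_iff W hW (rf i s)).1 (by rw [app_rf]; exact (congrArg _ hs).trans (map_zero _))
    refine (h'.app_eq_zero_iff W hW _).2 ?_
    have h3 := Ideal.mul_mem_mul (Ideal.mem_map_of_mem (act (Coh.toGlobal f) W) (Ideal.mem_span_singleton_self t)) h2
    rw [← Ideal.map_mul] at h3
    refine Ideal.map_mono (Ideal.mul_le.2 fun r hr x hx => ?_) h3
    obtain ⟨c, rfl⟩ := Ideal.mem_span_singleton'.1 hr
    rw [show c * t * x = c * (x * t) by ring]
    exact I'.mul_mem_left c (hmt x hx)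

/-- principal units as an extension -/
theorem shortExact_incl :
    (ShortComplex.mk (incl g' g (h'.mono h hII)) (cokernel.π _) (cokernel.condition _)).ShortExact :=
  haveI := mono_incl g' g (h'.mono h hII)
  { exact := ShortComplex.exact_of_g_is_cokernel _ (cokernelIsCokernel _) }

end Step

theorem subsingleton_H_push {Z : Scheme.{u}} (g : Z ⟶ X) [IsClosedImmersion g] (n : ℕ)
    (h : Subsingleton (Coh.HH Z (Coh.structureModule Z) n)) :
    Subsingleton (Sheaf.H ((CohTop.push g.base).obj (Coh.toAb (Coh.structureModule Z))) n) := by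
  obtain ⟨e⟩ := Groth.L17.nonempty_HH_push_of_isClosedImmersion g (Coh.structureModule Z) n
  exact e.symm.toEquiv.subsingleton

end Groth.L10.UnitsThick
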