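import Groth.Agent.L10.UnitsThick.Main
import Groth.Agent.L18.IdealModule

/-! The units sequence of a square-zero ideal sheaf. -/

set_option autoImplicit false
set_option linter.style.haveILetI false
set_option backward.isDefEq.respectTransparency false
set_option backward.isDefEq.respectTransparency.types false

universe u

open CategoryTheory CategoryTheory.Limits AlgebraicGeometry TopologicalSpace Opposite

noncomputable section

namespace Groth.L10.UnitsThick

variable {X : Scheme.{u}} (J : X.IdealSheafData) (hJ : J * J = ⊥)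

include hJ in
theorem mul_eq_zero_of_app_eq_zero (V : X.Opens) (a b : Γ(X, V)) (ha : J.subschemeι.app V a = 0)
    (hb : J.subschemeι.app V b = 0) : a * b = 0 := by
  refine eq_of_locally (F := Coh.toAb (Coh.structureModule X)) (V := V) (s := a * b) (t := 0) fun x hx => ?_
  obtain ⟨W, hW, hxW, ⟨i⟩⟩ := exists_affine hx
  refine ⟨W, hxW, i, ?_⟩
  show X.presheaf.map i.op (a * b) = X.presheaf.map i.op 0
  rw [map_mul, map_zero]
  have mem : ∀ c : Γ(X, V), J.subschemeι.app V c = 0 → X.presheaf.map i.op c ∈ J.ideal ⟨W, hW⟩ := fun c hc => by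
    rw [← J.ker_subschemeι_app ⟨W, hW⟩]
    exact RingHom.mem_ker.2 ((app_rf J.subschemeι i c).trans (by rw [hc, map_zero]))
  have h := Ideal.mul_mem_mul (mem a ha) (mem b hb)
  have h' : J.ideal ⟨W, hW⟩ * J.ideal ⟨W, hW⟩ = (J * J).ideal ⟨W, hW⟩ := rfl
  rw [h', hJ] at h
  simpa using h

/-- the inclusion of the ideal on sections -/
abbrev io (V : X.Opens) (m : (ClSub.idealMod J).val.obj (op V)) : Γ(X, V) :=
  (ClSub.idealModι J).val.app (op V) m

theorem app_io (V : X.Opens) (m : (ClSub.idealMod J).val.obj (op V)) : J.subschemeι.app V (io J V m) = 0 :=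
  ((Groth.L18.IdealModule.exact_sections J V).2 _).2 ⟨m, rfl⟩

include hJ in
theorem io_mul_io (V : X.Opens) (a b : (ClSub.idealMod J).val.obj (op V)) : io J V a * io J V b = 0 :=
  mul_eq_zero_of_app_eq_zero J hJ V _ _ (app_io J V a) (app_io J V b)

/-- the unit `1 + f` -/
def oneAdd (V : X.Opens) (m : (ClSub.idealMod J).val.obj (op V)) : Γ(X, V)ˣ :=
  ⟨1 + io J V m, 1 - io J V m, by linear_combination -(io_mul_io J hJ V m m), by linear_combination -(io_mul_io J hJ V m m)⟩

/-- `f ↦ 1 + f` -/
def oneAddHom : Coh.toAb (ClSub.idealMod J) ⟶ UnitsSh.unitsAb X :=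
  ⟨{ app := fun V => AddCommGrpCat.ofHom (AddMonoidHom.mk'
        (fun m : (ClSub.idealMod J).val.obj (op V.unop) =>
          UnitsSh.sectOfUnit (X := X.toTopCat) (O := X.sheaf.obj) (oneAdd J hJ V.unop m))
        fun (a b : (ClSub.idealMod J).val.obj (op V.unop)) =>
          congrArg (UnitsSh.sectOfUnit (X := X.toTopCat) (O := X.sheaf.obj)) (Units.ext (by
            show 1 + io J V.unop (a + b) = (1 + io J V.unop a) * (1 + io J V.unop b)
            rw [show io J V.unop (a + b) = io J V.unop a + io J V.unop b from map_add _ a b]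
            linear_combination -(io_mul_io J hJ V.unop a b))) :
          (ClSub.idealMod J).val.obj (op V.unop) →+ (UnitsSh.unitsAb X).obj.obj V)
     naturality := fun V W i => by
       ext (m : (ClSub.idealMod J).val.obj (op V.unop))
       refine congrArg (UnitsSh.sectOfUnit (X := X.toTopCat) (O := X.sheaf.obj)) (Units.ext ?_)
       show 1 + io J W.unop ((ClSub.idealMod J).val.map i m) = X.presheaf.map i (1 + io J V.unop m)
       rw [map_add, map_one]
       exact congrArg (1 + ·) (PresheafOfModules.naturality_apply (ClSub.idealModι J).val i m) }⟩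

theorem oneAddHom_val (V : X.Opens) (m : (ClSub.idealMod J).val.obj (op V)) :
    (UnitsSh.unitOfSect (X := X.toTopCat) (O := X.sheaf.obj) ((oneAddHom J hJ).hom.app (op V) m)).val =
      ((1 : Γ(X, V)) + io J V m : Γ(X, V)) :=
  rfl

theorem oneAddHom_comap : oneAddHom J hJ ≫ UnitsSh.comap J.subschemeι = 0 := by
  ext V m
  refine congrArg (UnitsSh.sectOfUnit (X := X.toTopCat) (O := J.subschemeι.base _* J.subscheme.presheaf)) (Units.ext ?_ :
    Units.map (J.subschemeι.app V.unop).hom.toMonoidHom (oneAdd J hJ V.unop m) = 1)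
  show J.subschemeι.app V.unop (1 + io J V.unop m) = 1
  rw [map_add, map_one, app_io, add_zero]

theorem shortExact_oneAddHom :
    (ShortComplex.mk (oneAddHom J hJ) (UnitsSh.comap J.subschemeι) (oneAddHom_comap J hJ)).ShortExact := by
  have : Mono (oneAddHom J hJ) := by
    refine Preadditive.mono_of_cancel_zero _ fun {T} g hg => ?_
    ext V a
    have h := congr($(congrArg (fun φ : T ⟶ UnitsSh.unitsAb X => φ.hom.app V) hg) a)
    have h' := congrArg (fun s => (UnitsSh.unitOfSect (X := X.toTopCat) (O := X.sheaf.obj) s).val) h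
    have h2 : io J V.unop (g.hom.app V a) = io J V.unop 0 := by
      rw [show io J V.unop 0 = 0 from map_zero _]
      exact add_eq_left.1 h'
    exact (Groth.L18.IdealModule.exact_sections J V.unop).1 h2
  have : Epi (UnitsSh.comap J.subschemeι) := epi_of_local_lift _ fun V s x hx => by
    obtain ⟨W, hW, hxW, ⟨i⟩⟩ := exists_affine hx
    let v : Γ(J.subscheme, J.subschemeι ⁻¹ᵁ W)ˣ := UnitsSh.unitOfSect (X := X.toTopCat)
      (O := J.subschemeι.base _* J.subscheme.presheaf)
      (((CohTop.push J.subschemeι.base).obj (UnitsSh.unitsAb J.subscheme)).obj.map i.op s)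
    obtain ⟨a, ha⟩ := J.subschemeι.app_surjective W hW v.val
    obtain ⟨b, hb⟩ := J.subschemeι.app_surjective W hW v⁻¹.val
    have h0 : J.subschemeι.app W (a * b - 1) = 0 := by
      rw [map_sub, map_mul, ha, hb, map_one, Units.mul_inv, sub_self]
    have hn : IsNilpotent (a * b - 1) := ⟨2, by rw [pow_two]; exact mul_eq_zero_of_app_eq_zero J hJ W _ _ h0 h0⟩
    have hu : IsUnit (a * b) := by simpa using hn.isUnit_one_add
    exact ⟨W, hxW, i, UnitsSh.sectOfUnit (X := X.toTopCat) (O := X.sheaf.obj) (isUnit_of_mul_isUnit_left hu).unit,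
      congrArg (UnitsSh.sectOfUnit (X := X.toTopCat) (O := J.subschemeι.base _* J.subscheme.presheaf)) (Units.ext ha :
        Units.map (J.subschemeι.app W).hom.toMonoidHom (isUnit_of_mul_isUnit_left hu).unit = v)⟩
  refine { exact := ?_ }
  rw [ShortComplex.exact_iff_epi_kernel_lift]
  refine epi_of_local_lift _ fun V p x hx => ⟨V, hx, 𝟙 V, ?_⟩
  have hp : J.subschemeι.app V (val J.subschemeι p - 1) = 0 := by rw [map_sub, app_val, map_one, sub_self]
  obtain ⟨m, hm⟩ := ((Groth.L18.IdealModule.exact_sections J V).2 _).1 hp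
  refine ⟨m, val_injective J.subschemeι ?_⟩
  rw [show (𝟙 V : V ⟶ V).op = 𝟙 (op V) from rfl, CategoryTheory.Functor.map_id, ConcreteCategory.id_apply]
  have h := congr($(congrArg (fun φ : Coh.toAb (ClSub.idealMod J) ⟶ UnitsSh.unitsAb X => φ.hom.app (op V))
    (kernel.lift_ι (UnitsSh.comap J.subschemeι) (oneAddHom J hJ) (oneAddHom_comap J hJ))) m)
  refine (congrArg (fun s => (UnitsSh.unitOfSect (X := X.toTopCat) (O := X.sheaf.obj) s).val) h).trans ?_
  show 1 + io J V m = _
  rw [show io J V m = val J.subschemeι p - 1 from hm]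
  ring

end Groth.L10.UnitsThick
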