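import Groth.Agent.L17.BC.Change
import Mathlib.AlgebraicGeometry.Morphisms.Flat
import Mathlib.AlgebraicGeometry.Morphisms.ClosedImmersion

/-! Sections vanishing on the base change along a quotient of the base ring. -/

set_option autoImplicit false
set_option linter.style.haveILetI false
set_option linter.unusedSectionVars false
set_option backward.isDefEq.respectTransparency false

universe u

open CategoryTheory CategoryTheory.Limits AlgebraicGeometry TopologicalSpace Opposite
open scoped TensorProduct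

noncomputable section

namespace Groth.L10.UnitsThick

open Groth.L17.BC (act isPushout_sections)

variable {A : Type u} [CommRing A] {X : Scheme.{u}} (f : X ⟶ Spec (CommRingCat.of A))

/-- `g` is cut out by the ideal `I` of the base: on affine opens it is the quotient by `I`. -/
structure IsCut {Z : Scheme.{u}} (g : Z ⟶ X) (I : Ideal A) : Prop where
  surj : ∀ V : X.Opens, IsAffineOpen V → Function.Surjective (g.app V)
  app_eq_zero_iff : ∀ (V : X.Opens), IsAffineOpen V → ∀ a : Γ(X, V),
    g.app V a = 0 ↔ a ∈ I.map (act (Coh.toGlobal f) V)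

theorem isCut_id : IsCut f (𝟙 X) ⊥ where
  surj V _ a := ⟨a, rfl⟩
  app_eq_zero_iff V _ a := by rw [Ideal.map_bot, Ideal.mem_bot]; rfl

theorem mem_map_of_one_tmul_eq_zero {B M : Type u} [CommRing B] [Algebra A B] [CommRing M] [Algebra A M]
    (hs : Function.Surjective (algebraMap A B)) {s : M} (h : (1 : B) ⊗ₜ[A] s = 0) :
    s ∈ (RingHom.ker (algebraMap A B)).map (algebraMap A M) := by
  let K : Submodule A A := RingHom.ker (algebraMap A B)
  have hex : Function.Exact K.subtype (Algebra.linearMap A B) := fun r => by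
    constructor
    · exact fun h => ⟨⟨r, h⟩, rfl⟩
    · rintro ⟨k, rfl⟩; exact k.2
  have h0 : (Algebra.linearMap A B).rTensor M ((1 : A) ⊗ₜ[A] s) = 0 := by
    rw [LinearMap.rTensor_tmul, Algebra.linearMap_apply, map_one]
    exact h
  obtain ⟨w, hw⟩ := (rTensor_exact M hex hs _).1 h0
  have hz : ∀ w : K ⊗[A] M, TensorProduct.lid A M (K.subtype.rTensor M w) ∈
      (RingHom.ker (algebraMap A B)).map (algebraMap A M) := fun w => by
    induction w using TensorProduct.induction_on with
    | zero => simp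
    | tmul k m =>
      rw [LinearMap.rTensor_tmul, TensorProduct.lid_tmul, Algebra.smul_def]
      exact Ideal.mul_mem_right _ _ (Ideal.mem_map_of_mem _ k.2)
    | add a b ha hb => simp only [map_add]; exact add_mem ha hb
  have := hz w
  rwa [hw, TensorProduct.lid_tmul, one_smul] at this

theorem isClosedImmersion_of_sq {B : Type u} [CommRing B] (φ : A →+* B) (hφ : Function.Surjective φ) {Z : Scheme.{u}}
    {g : Z ⟶ X} {p : Z ⟶ Spec (CommRingCat.of B)} (sq : IsPullback g p f (Spec.map (CommRingCat.ofHom φ))) :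
    IsClosedImmersion g :=
  MorphismProperty.of_isPullback (P := @IsClosedImmersion) sq.flip
    (IsClosedImmersion.spec_of_surjective _ hφ)

theorem isCut_of_sq {B : Type u} [CommRing B] (φ : A →+* B) (hφ : Function.Surjective φ) {Z : Scheme.{u}}
    {g : Z ⟶ X} {p : Z ⟶ Spec (CommRingCat.of B)} (sq : IsPullback g p f (Spec.map (CommRingCat.ofHom φ))) :
    IsCut f g (RingHom.ker φ) where
  surj V hV := by
    haveI := isClosedImmersion_of_sq f φ hφ sq
    exact g.app_surjective V hV
  app_eq_zero_iff V hV a := by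
    letI : Algebra A B := φ.toAlgebra
    let W := g ⁻¹ᵁ V
    letI : Algebra A Γ(X, V) := (act (Coh.toGlobal f) V).toAlgebra
    letI : Algebra B Γ(Z, W) := (act (Coh.toGlobal p) W).toAlgebra
    letI : Algebra Γ(X, V) Γ(Z, W) := (g.app V).hom.toAlgebra
    letI : Algebra A Γ(Z, W) := ((act (Coh.toGlobal p) W).comp (algebraMap A B)).toAlgebra
    haveI : IsScalarTower A B Γ(Z, W) := IsScalarTower.of_algebraMap_eq fun _ => rfl
    have hpo := isPushout_sections f p g sq hV
    have hw : ∀ x : A, g.app V (act (Coh.toGlobal f) V x) = act (Coh.toGlobal p) W (φ x) := fun x =>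
      ConcreteCategory.congr_hom hpo.w x
    haveI : IsScalarTower A Γ(X, V) Γ(Z, W) := IsScalarTower.of_algebraMap_eq fun a => (hw a).symm
    haveI : Algebra.IsPushout A B Γ(X, V) Γ(Z, W) := CommRingCat.isPushout_iff_isPushout.1 hpo.flip
    constructor
    · intro ha
      have h1 : (1 : B) ⊗ₜ[A] a = 0 := by
        apply (Algebra.IsPushout.out (R := A) (S := B) (R' := Γ(X, V)) (S' := Γ(Z, W))).equiv.injective
        rw [IsBaseChange.equiv_tmul, map_zero, one_smul]
        exact ha
      exact mem_map_of_one_tmul_eq_zero (A := A) hφ h1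
    · intro ha
      refine RingHom.mem_ker.1 ((Ideal.map_le_iff_le_comap.2 (fun x hx => ?_)) ha : a ∈ RingHom.ker (g.app V).hom)
      refine RingHom.mem_ker.2 ((hw x).trans ?_)
      rw [RingHom.mem_ker.1 hx, map_zero]

theorem isNilpotent_of_mem_map {I : Ideal A} (hI : ∀ x ∈ I, IsNilpotent x) {V : X.Opens} {a : Γ(X, V)}
    (ha : a ∈ I.map (act (Coh.toGlobal f) V)) : IsNilpotent a :=
  mem_nilradical.1 ((Ideal.map_le_iff_le_comap.2 fun x hx =>
    mem_nilradical.2 ((hI x hx).map (act (Coh.toGlobal f) V)) : I.map (act (Coh.toGlobal f) V) ≤ nilradical _) ha)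

theorem flat_act [Flat f] {V : X.Opens} (hV : IsAffineOpen V) : (act (Coh.toGlobal f) V).Flat := by
  have h := f.flat_appLE (isAffineOpen_top _) hV (le_top : V ≤ f ⁻¹ᵁ ⊤)
  have e : act (Coh.toGlobal f) V =
      (f.appLE ⊤ V le_top).hom.comp (Scheme.ΓSpecIso (CommRingCat.of A)).inv.hom := rfl
  rw [e]
  exact RingHom.Flat.comp (RingHom.Flat.of_bijective
    (ConcreteCategory.bijective_of_isIso (Scheme.ΓSpecIso (CommRingCat.of A)).inv)) h

/-- In a flat algebra, `t * s ∈ I' M` forces `s ∈ m M` if the annihilator of `t` modulo `I'` is `m`. -/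
theorem mem_map_of_mul_mem [Flat f] {I' m : Ideal A} (t : A) (hmt : ∀ x ∈ m, x * t ∈ I')
    (hcol : ∀ x, x * t ∈ I' → x ∈ m) {V : X.Opens} (hV : IsAffineOpen V) {s : Γ(X, V)}
    (h : act (Coh.toGlobal f) V t * s ∈ I'.map (act (Coh.toGlobal f) V)) :
    s ∈ m.map (act (Coh.toGlobal f) V) := by
  letI : Algebra A Γ(X, V) := (act (Coh.toGlobal f) V).toAlgebra
  haveI : Module.Flat A Γ(X, V) := flat_act f hV
  let θ : (A ⧸ m) →ₗ[A] (A ⧸ I') := Submodule.liftQ m
    ((Submodule.mkQ I').comp (LinearMap.toSpanSingleton A A t)) fun x hx =>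
      (Submodule.Quotient.mk_eq_zero I').2 (by simpa [smul_eq_mul] using hmt x hx)
  have hθ : Function.Injective θ := (injective_iff_map_eq_zero θ).2 fun q => by
    obtain ⟨x, rfl⟩ := Submodule.Quotient.mk_surjective m q
    exact fun hq => (Submodule.Quotient.mk_eq_zero m).2
      (hcol x (by simpa [θ, smul_eq_mul] using (Submodule.Quotient.mk_eq_zero I').1 hq))
  have hinj : Function.Injective (θ.rTensor Γ(X, V)) := Module.Flat.rTensor_preserves_injective_linearMap θ hθ
  have hkill : ∀ z : Γ(X, V), z ∈ I'.map (algebraMap A Γ(X, V)) → (1 : A ⧸ I') ⊗ₜ[A] z = 0 := fun z hz => by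
    refine Submodule.span_induction (p := fun z _ => ∀ y : Γ(X, V), (1 : A ⧸ I') ⊗ₜ[A] (z * y) = 0) ?_ ?_ ?_ ?_ hz 1 |>
      fun e => by simpa using e
    · rintro _ ⟨x, hx, rfl⟩ y
      rw [← Algebra.smul_def, TensorProduct.tmul_smul, TensorProduct.smul_tmul', Algebra.smul_def, mul_one,
        Ideal.Quotient.algebraMap_eq, Ideal.Quotient.eq_zero_iff_mem.2 hx, TensorProduct.zero_tmul]
    · intro y; rw [zero_mul, TensorProduct.tmul_zero]
    · intro a b _ _ ha hb y; rw [add_mul, TensorProduct.tmul_add, ha, hb, add_zero]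
    · intro c a _ ha y; rw [smul_eq_mul, mul_comm c a, mul_assoc, ha]
  have h0 : θ.rTensor Γ(X, V) ((1 : A ⧸ m) ⊗ₜ[A] s) = 0 := by
    rw [LinearMap.rTensor_tmul, show θ (1 : A ⧸ m) = t • (1 : A ⧸ I') from ?_, ← TensorProduct.smul_tmul',
      ← TensorProduct.tmul_smul, Algebra.smul_def]
    · exact hkill _ h
    · show Submodule.Quotient.mk ((1 : A) • t) = t • (Submodule.Quotient.mk 1 : A ⧸ I')
      rw [← Submodule.Quotient.mk_smul]
      simp
  have h1 : (1 : A ⧸ m) ⊗ₜ[A] s = 0 := hinj (h0.trans (map_zero _).symm)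
  have := mem_map_of_one_tmul_eq_zero (A := A) (B := A ⧸ m) Ideal.Quotient.mk_surjective h1
  rwa [Ideal.Quotient.algebraMap_eq, Ideal.mk_ker] at this

end Groth.L10.UnitsThick
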