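import Groth.Agent.L10.UnitsThick.Main
import Mathlib.RingTheory.Artinian.Ring
import Mathlib.RingTheory.KrullDimension.Zero
import Mathlib.RingTheory.LocalRing.ResidueField.Basic

/-! Cohomology of principal units. -/

set_option autoImplicit false
set_option linter.style.haveILetI false
set_option linter.unusedSectionVars false
set_option backward.isDefEq.respectTransparency false
set_option backward.isDefEq.respectTransparency.types false

universe u

open CategoryTheory CategoryTheory.Limits AlgebraicGeometry TopologicalSpace Opposite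

noncomputable section

namespace Groth.L10.UnitsThick

variable {A : Type u} [CommRing A] {X : Scheme.{u}} {f : X ⟶ Spec (CommRingCat.of A)} [Flat f]
  {I' I m : Ideal A} {Z' Z Z₀ : Scheme.{u}} {g' : Z' ⟶ X} {g : Z ⟶ X} {g₀ : Z₀ ⟶ X} [IsClosedImmersion g₀]

/-- cohomology vanishing of principal units climbs one step -/
theorem subsingleton_H_step (h' : IsCut f g' I') (h : IsCut f g I) (hII : I' ≤ I) (t : A) (ht : t ∈ I)
    (hI : ∀ x ∈ I, IsNilpotent x) (hsq : t * t ∈ I') (hspan : I ≤ I' ⊔ Ideal.span {t}) (h₀ : IsCut f g₀ m)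
    (hmt : ∀ x ∈ m, x * t ∈ I') (hcol : ∀ x, x * t ∈ I' → x ∈ m) (n : ℕ)
    (h1 : Subsingleton (Sheaf.H (P g') n)) (hv : Subsingleton (Coh.HH Z₀ (Coh.structureModule Z₀) n)) :
    Subsingleton (Sheaf.H (P g) n) := by
  obtain ⟨e⟩ := nonempty_gr_iso h' h hII t ht hI hsq hspan h₀ hmt hcol
  exact subsingleton_H_middle (shortExact_incl h' h hII) n h1
    (subsingleton_H_of_iso e.symm n (subsingleton_H_push g₀ n hv))

/-- for a small extension the principal units are the structure sheaf of the closed fibre -/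
theorem nonempty_P_iso (h : IsCut f g I) (t : A) (hI : I = Ideal.span {t}) (htt : t * t = 0)
    (h₀ : IsCut f g₀ m) (hm : ∀ x, x * t = 0 ↔ x ∈ m) :
    Nonempty (P g ≅ (CohTop.push g₀.base).obj (Coh.toAb (Coh.structureModule Z₀))) := by
  subst hI
  have hn : ∀ x ∈ Ideal.span {t}, IsNilpotent x := fun x hx => by
    obtain ⟨c, rfl⟩ := Ideal.mem_span_singleton'.1 hx
    exact ⟨2, by rw [mul_pow, pow_two t, htt, mul_zero]⟩
  obtain ⟨e⟩ := nonempty_gr_iso (isCut_id f) h bot_le t (Ideal.mem_span_singleton_self t) hn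
    (by rw [htt]; exact zero_mem _) le_sup_right h₀
    (fun x hx => by rw [(hm x).2 hx]; exact zero_mem _) (fun x hx => (hm x).1 ((Submodule.mem_bot _).1 hx))
  haveI := (shortExact_incl (isCut_id f) h (bot_le : ⊥ ≤ Ideal.span {t})).isIso_g_iff.2 (isCut_id f).isZero_P
  exact ⟨asIso (cokernel.π _) ≪≫ e⟩

/-- vanishing along all ideals of an Artinian local ring -/
theorem subsingleton_H_P_artinian [IsLocalRing A] [IsArtinianRing A]
    (Zs : Ideal A → Scheme.{u}) (gs : ∀ J, Zs J ⟶ X) (hc : ∀ J, IsCut f (gs J) J)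
    (h₀ : IsCut f g₀ (IsLocalRing.maximalIdeal A)) (n : ℕ)
    (hv : Subsingleton (Coh.HH Z₀ (Coh.structureModule Z₀) n)) (J : Ideal A) (hJ : J ≤ IsLocalRing.maximalIdeal A) :
    Subsingleton (Sheaf.H (P (gs J)) n) := by
  induction J using WellFoundedLT.induction with
  | ind J ih =>
    rcases eq_or_ne J ⊥ with rfl | hne
    · exact subsingleton_H_of_isZero (hc ⊥).isZero_P n
    obtain ⟨I', hI', hmax⟩ := WellFounded.has_min (wellFounded_gt (α := Ideal A)) {I | I < J} ⟨⊥, bot_lt_iff_ne_bot.2 hne⟩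
    replace hI' : I' < J := hI'
    obtain ⟨t, htJ, htI⟩ := SetLike.exists_of_lt hI'
    have top : ∀ a ∈ J, a ∉ I' → I' ⊔ Ideal.span {a} = J := fun a ha ha' => by
      refine (sup_le hI'.le ((Ideal.span_singleton_le_iff_mem _).2 ha)).eq_of_not_lt fun hlt =>
        hmax _ hlt (lt_of_le_of_ne le_sup_left fun e => ha' ?_)
      rw [e]
      exact Ideal.mem_sup_right (Ideal.mem_span_singleton_self a)
    have hm : ∀ x ∈ IsLocalRing.maximalIdeal A, x * t ∈ I' := fun x hx => by
      by_contra hxt
      have := top (x * t) (J.mul_mem_left x htJ) hxt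
      rw [← this, Submodule.mem_sup] at htJ
      obtain ⟨a, ha, b, hb, hab⟩ := htJ
      obtain ⟨c, rfl⟩ := Ideal.mem_span_singleton'.1 hb
      refine htI ?_
      have hu : IsUnit (1 - c * x) := IsLocalRing.isUnit_one_sub_self_of_mem_nonunits _
        ((IsLocalRing.mem_maximalIdeal _).1 ((IsLocalRing.maximalIdeal A).mul_mem_left c hx))
      refine (Ideal.unit_mul_mem_iff_mem I' hu).1 ?_
      rw [show (1 - c * x) * t = a by linear_combination -hab]
      exact ha
    have hnil : ∀ x ∈ J, IsNilpotent x := fun x hx => mem_nilradical.1 (by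
      rw [Ring.KrullDimLE.nilradical_eq_maximalIdeal]; exact hJ hx)
    exact subsingleton_H_step (hc I') (hc J) hI'.le t htJ hnil (hm t (hJ htJ)) (top t htJ htI).ge h₀ hm
      (fun x hx => by
        by_contra hxm
        exact htI ((Ideal.unit_mul_mem_iff_mem I' (not_not.1 fun hu => hxm ((IsLocalRing.mem_maximalIdeal x).2 hu))).1 hx))
      n (ih I' hI' (hI'.le.trans hJ)) hv

end Groth.L10.UnitsThick
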