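import Groth.Agent.L10.UnitsThick.Coh

/-! Split units sequences. -/

set_option autoImplicit false
set_option linter.style.haveILetI false
set_option backward.isDefEq.respectTransparency false
set_option backward.isDefEq.respectTransparency.types false

universe u

open CategoryTheory CategoryTheory.Limits AlgebraicGeometry TopologicalSpace Opposite

noncomputable section

namespace Groth.L10.UnitsThick

variable {X Z : Scheme.{u}} (g : Z ⟶ X) [Surjective g] (s : X ⟶ Z) (hs : g ≫ s = 𝟙 Z)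

include hs in
theorem le_preimage_retraction (V : X.Opens) : V ≤ s ⁻¹ᵁ g ⁻¹ᵁ V := fun x hx => by
  obtain ⟨z, rfl⟩ := g.surjective x
  show g.base (s.base (g.base z)) ∈ V
  have h : s.base (g.base z) = z := congr($(congrArg (fun t : Z ⟶ Z => t.base) hs) z)
  rw [h]
  exact hx

/-- the section of `O_X^× → g_* O_Z^×` given by a retraction -/
def unitsSection : (CohTop.push g.base).obj (UnitsSh.unitsAb Z) ⟶ UnitsSh.unitsAb X :=
  ⟨{ app := fun V => UnitsSh.unitsFunctor.map
      (s.appLE (g ⁻¹ᵁ V.unop) V.unop (le_preimage_retraction g s hs V.unop))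
     naturality := fun V W i => by
      show UnitsSh.unitsFunctor.map _ ≫ UnitsSh.unitsFunctor.map _ =
        UnitsSh.unitsFunctor.map _ ≫ UnitsSh.unitsFunctor.map _
      rw [← Functor.map_comp, ← Functor.map_comp]
      refine congrArg UnitsSh.unitsFunctor.map ?_
      exact (Scheme.Hom.map_appLE s _ _).trans (Scheme.Hom.appLE_map s _ _).symm }⟩

theorem unitsSection_comap : unitsSection g s hs ≫ UnitsSh.comap g = 𝟙 _ := by
  apply Sheaf.hom_ext
  ext V : 2
  show UnitsSh.unitsFunctor.map _ ≫ UnitsSh.unitsFunctor.map (g.app V.unop) = 𝟙 _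
  have key : s.appLE (g ⁻¹ᵁ V.unop) V.unop (le_preimage_retraction g s hs V.unop) ≫ g.app V.unop = 𝟙 _ := by
    have h : ∀ (t : Z ⟶ Z) (_ : t = 𝟙 Z) (e : g ⁻¹ᵁ V.unop ≤ t ⁻¹ᵁ g ⁻¹ᵁ V.unop),
        t.appLE (g ⁻¹ᵁ V.unop) (g ⁻¹ᵁ V.unop) e = 𝟙 _ := by
      rintro t rfl e
      simp only [Scheme.Hom.appLE, Scheme.Hom.id_app, Category.id_comp]
      exact Z.presheaf.map_id _
    rw [Scheme.Hom.app_eq_appLE, Scheme.Hom.appLE_comp_appLE]
    exact h _ hs _
  rw [← Functor.map_comp, key]
  exact UnitsSh.unitsFunctor.map_id _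

/-- cohomology of isomorphic sheaves -/
def addEquivOfIso {T : TopCat.{u}} {F G : CohTop.Ab T} (e : F ≅ G) (q : ℕ) : Sheaf.H F q ≃+ Sheaf.H G q :=
  AddEquiv.ofBijective (Sheaf.H.map e.hom q) (Function.bijective_iff_has_inverse.2 ⟨Sheaf.H.map e.inv q,
    fun x => by simp [Sheaf.H.map_apply], fun x => by simp [Sheaf.H.map_apply]⟩)

end Groth.L10.UnitsThick
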